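import Groth.Agent.L18.FiberStalk
import Mathlib.AlgebraicGeometry.Morphisms.Flat
import Mathlib.RingTheory.Spectrum.Prime.Topology
import Mathlib.RingTheory.DiscreteValuationRing.Basic
import Mathlib.RingTheory.Flat.TorsionFree

/-!
# Connectedness of the generic fibre over a discrete valuation ring
-/

set_option autoImplicit false
set_option linter.style.haveILetI false
set_option backward.isDefEq.respectTransparency.types false
universe u

open CategoryTheory CategoryTheory.Limits AlgebraicGeometry TopologicalSpace IsLocalRing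

noncomputable section

namespace Groth.L20.GenConn

/-- A clopen part of the locus where a regular element with reduced quotient is invertible is cut out
by an idempotent. -/
theorem exists_idem {A : Type u} [CommRing A] {u : A} (hu : u ∈ nonZeroDivisors A)
    (hred : ∀ w : A, w * w ∈ Ideal.span {u} → w ∈ Ideal.span {u})
    (S : Set (PrimeSpectrum A))
    (hS : IsClopen (Subtype.val ⁻¹' S : Set {p : PrimeSpectrum A // u ∉ p.asIdeal})) :
    ∃ e : A, IsIdempotentElem e ∧ ∀ p : PrimeSpectrum A, u ∉ p.asIdeal → (e ∉ p.asIdeal ↔ p ∈ S) := by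
  let L := Localization.Away u
  let φ : PrimeSpectrum L → {p : PrimeSpectrum A // u ∉ p.asIdeal} := fun q =>
    ⟨q.comap (algebraMap A L), fun h => q.isPrime.ne_top
      (Ideal.eq_top_of_isUnit_mem _ h (IsLocalization.Away.algebraMap_isUnit u))⟩
  have hS' : IsClopen (φ ⁻¹' (Subtype.val ⁻¹' S)) :=
    hS.preimage ((PrimeSpectrum.continuous_comap _).subtype_mk _)
  obtain ⟨ε, hε, hεS⟩ := PrimeSpectrum.exists_idempotent_basicOpen_eq_of_isClopen hS'
  obtain ⟨⟨a, ⟨_, n, rfl⟩⟩, ha⟩ := IsLocalization.surj (Submonoid.powers u) ε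
  have hinj : Function.Injective (algebraMap A L) :=
    IsLocalization.injective L (Submonoid.powers_le.2 hu)
  have key : ∀ (n : ℕ) (a : A), ε * algebraMap A L (u ^ n) = algebraMap A L a →
      ∃ e : A, algebraMap A L e = ε ∧ IsIdempotentElem e := by
    intro n
    induction n with
    | zero =>
      intro a h
      rw [pow_zero, map_one, mul_one] at h
      exact ⟨a, h.symm, hinj (by rw [map_mul, ← h]; exact hε)⟩
    | succ n ih =>
      intro a h
      have h1 : a * a = u * (u ^ n * a) := hinj (by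
        rw [map_mul, ← mul_assoc, ← pow_succ', map_mul, ← h, mul_mul_mul_comm, hε.eq]
        ring)
      obtain ⟨a', rfl⟩ := Ideal.mem_span_singleton'.1 (hred a (h1 ▸ Ideal.mul_mem_right _ _ (Ideal.mem_span_singleton_self u)))
      refine ih a' ((IsLocalization.Away.algebraMap_isUnit (S := L) u).mul_left_inj.1 ?_)
      rw [mul_assoc, ← map_mul, ← pow_succ, h, map_mul]
  obtain ⟨e, he, hee⟩ := key n a ha
  refine ⟨e, hee, fun p hp => ?_⟩
  obtain ⟨q, hq⟩ : ∃ q : PrimeSpectrum L, q.comap (algebraMap A L) = p := by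
    have : p ∈ Set.range (PrimeSpectrum.comap (algebraMap A L)) := by
      rw [PrimeSpectrum.localization_away_comap_range L u]; exact hp
    exact this
  subst hq
  have h1 : q ∈ (φ ⁻¹' (Subtype.val ⁻¹' S)) ↔ ε ∉ q.asIdeal := by rw [hεS]; rfl
  rw [← he] at h1
  exact h1.symm

variable {R : Type u} [CommRing R] [IsDomain R] [IsDiscreteValuationRing R] {X : Scheme.{u}}
  (f : X ⟶ Spec (CommRingCat.of R))

theorem isConnected_genericFibre [Flat f] [ConnectedSpace ↑X]
    (hred : IsReduced (f.fiber (IsLocalRing.closedPoint R))) :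
    _root_.IsConnected (f ⁻¹' {(⟨⊥, Ideal.isPrime_bot⟩ : PrimeSpectrum R)}) := by
  obtain ⟨ϖ, hϖ⟩ := IsDiscreteValuationRing.exists_irreducible R
  let s : Γ(Spec (CommRingCat.of R), ⊤) := (Scheme.ΓSpecIso (CommRingCat.of R)).inv ϖ
  let G : X.Opens := f ⁻¹ᵁ (Spec (CommRingCat.of R)).basicOpen s
  have hpt : ∀ q : Spec (CommRingCat.of R), q ∈ (Spec (CommRingCat.of R)).basicOpen s ↔
      q = (⟨⊥, Ideal.isPrime_bot⟩ : PrimeSpectrum R) := fun q => by
    rw [show (Spec (CommRingCat.of R)).basicOpen s = PrimeSpectrum.basicOpen ϖ from basicOpen_eq_of_affine (R := CommRingCat.of R) ϖ]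
    show ϖ ∉ q.asIdeal ↔ _
    constructor
    · intro h
      refine PrimeSpectrum.ext (by_contra fun hb => h ?_)
      rw [IsLocalRing.eq_maximalIdeal (Ideal.IsPrime.isMaximal q.isPrime hb), hϖ.maximalIdeal_eq]
      exact Ideal.mem_span_singleton_self ϖ
    · rintro rfl h
      exact hϖ.ne_zero h
  have hG : (f ⁻¹' {(⟨⊥, Ideal.isPrime_bot⟩ : PrimeSpectrum R)}) = (G : Set X) := by
    ext x
    exact (hpt (f x)).symm
  rw [hG]
  -- the affine charts
  have hch : ∀ (U : X.Opens), IsAffineOpen U → ∃ u : Γ(X, U), X.basicOpen u = U ⊓ G ∧ u ∈ nonZeroDivisors Γ(X, U) ∧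
      ∀ w : Γ(X, U), w * w ∈ Ideal.span {u} → w ∈ Ideal.span {u} := by
    intro U hU
    let u := f.appLE ⊤ U le_top s
    have hb : X.basicOpen u = U ⊓ G := Scheme.basicOpen_appLE f U ⊤ le_top s
    refine ⟨u, hb, ?_, fun w hw => ?_⟩
    · haveI : IsDomain Γ(Spec (CommRingCat.of R), ⊤) :=
        (Scheme.ΓSpecIso (CommRingCat.of R)).commRingCatIsoToRingEquiv.toMulEquiv.isDomain R
      letI := (f.appLE ⊤ U le_top).hom.toAlgebra
      haveI : Module.Flat Γ(Spec (CommRingCat.of R), ⊤) Γ(X, U) := f.flat_appLE (isAffineOpen_top _) hU le_top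
      haveI : Module.IsTorsionFree Γ(Spec (CommRingCat.of R), ⊤) Γ(X, U) := inferInstance
      have hs : s ≠ 0 := fun h => hϖ.ne_zero ((map_eq_zero_iff _
        (ConcreteCategory.bijective_of_isIso (Scheme.ΓSpecIso (CommRingCat.of R)).inv).1).1 h)
      exact mem_nonZeroDivisors_iff_right.2 fun v hv =>
        (smul_eq_zero.1 (show s • v = 0 by rw [Algebra.smul_def, mul_comm]; exact hv)).resolve_left hs
    · let K : Ideal Γ(X, U) := Submodule.comap (LinearMap.toSpanSingleton Γ(X, U) Γ(X, U) w) (Ideal.span {u})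
      suffices K = ⊤ by simpa [K] using (Ideal.eq_top_iff_one K).1 this
      by_contra hK
      obtain ⟨P, hP, hle⟩ := K.exists_le_maximal hK
      haveI := hP.isPrime
      let x := hU.fromSpec ⟨P, hP.isPrime⟩
      have hxU : x ∈ U := hU.range_fromSpec.subset (Set.mem_range_self _)
      letI := X.presheaf.algebra_section_stalk ⟨x, hxU⟩
      haveI hloc := hU.isLocalization_stalk ⟨x, hxU⟩
      have hPx : (hU.primeIdealOf ⟨x, hxU⟩).asIdeal = P :=
        congrArg PrimeSpectrum.asIdeal (hU.fromSpec.isOpenEmbedding.injective (hU.fromSpec_primeIdealOf ⟨x, hxU⟩))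
      simp only [hPx] at hloc
      clear_value x
      have key : algebraMap Γ(X, U) (X.presheaf.stalk x) w ∈
          (Ideal.span {u}).map (algebraMap Γ(X, U) (X.presheaf.stalk x)) := by
        by_cases huP : u ∈ P
        · have hxc : f x = IsLocalRing.closedPoint R := by
            have h1 : f x ∉ (Spec (CommRingCat.of R)).basicOpen s := fun h => by
              have h2 : x ∈ X.basicOpen u := by rw [hb]; exact ⟨hxU, h⟩
              rw [X.mem_basicOpen u x hxU] at h2
              exact ((IsLocalization.AtPrime.to_map_mem_maximal_iff (X.presheaf.stalk x) P u).2 huP) h2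
            rw [show (Spec (CommRingCat.of R)).basicOpen s = PrimeSpectrum.basicOpen ϖ from basicOpen_eq_of_affine (R := CommRingCat.of R) ϖ] at h1
            have h3 : ϖ ∈ (f x).asIdeal := not_not.1 h1
            exact PrimeSpectrum.ext (le_antisymm (IsLocalRing.le_maximalIdeal (f x).isPrime.ne_top)
              (by show maximalIdeal R ≤ _; rw [hϖ.maximalIdeal_eq, Ideal.span_singleton_le_iff_mem]; exact h3))
          obtain ⟨v, hv⟩ : x ∈ Set.range (f.fiberι (IsLocalRing.closedPoint R)) := by rw [f.range_fiberι]; exact hxc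
          haveI := hred
          obtain ⟨-, hker⟩ := Groth.L18.stalkMap_fiberι f (IsLocalRing.closedPoint R) v
          have hker' : ∀ x' : X, x' = x → (hxU' : x' ∈ U) → maximalIdeal ((Spec (CommRingCat.of R)).presheaf.stalk (f x')) ≤
              Ideal.span {(Spec (CommRingCat.of R)).presheaf.germ ⊤ (f x') trivial s} := by
            intro x' e _
            subst x'
            have hxT : f x ∈ (⊤ : (Spec (CommRingCat.of R)).Opens) := trivial
            letI := (Spec (CommRingCat.of R)).presheaf.algebra_section_stalk ⟨f x, hxT⟩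
            haveI := (isAffineOpen_top (Spec (CommRingCat.of R))).isLocalization_stalk ⟨f x, hxT⟩
            intro t ht
            obtain ⟨⟨c, d⟩, hcd⟩ := IsLocalization.surj ((isAffineOpen_top (Spec (CommRingCat.of R))).primeIdealOf ⟨f x, hxT⟩).asIdeal.primeCompl t
            have hc : algebraMap _ ((Spec (CommRingCat.of R)).presheaf.stalk (f x)) c ∈ maximalIdeal _ :=
              hcd ▸ Ideal.mul_mem_right _ _ ht
            have hcn : ¬ IsUnit c := fun hcu => hc (hcu.map _)
            let i := (Scheme.ΓSpecIso (CommRingCat.of R)).commRingCatIsoToRingEquiv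
            have : i c ∈ maximalIdeal R := fun hcu => hcn (by simpa using hcu.map i.symm)
            rw [hϖ.maximalIdeal_eq, Ideal.mem_span_singleton'] at this
            obtain ⟨k, hk⟩ := this
            have hck : c = i.symm k * s := by
              rw [show s = i.symm ϖ from rfl, ← map_mul, hk, i.symm_apply_apply]
            refine (Ideal.mul_unit_mem_iff_mem _ (IsLocalization.map_units _ d)).1 ?_
            rw [hcd, hck, map_mul]
            exact Ideal.mul_mem_left _ _ (Ideal.mem_span_singleton_self _)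
          subst hv
          have hkle : RingHom.ker ((f.fiberι (IsLocalRing.closedPoint R)).stalkMap v).hom ≤
              (Ideal.span {u}).map (algebraMap Γ(X, U) (X.presheaf.stalk (f.fiberι (IsLocalRing.closedPoint R) v))) := by
            rw [hker]
            refine (Ideal.map_mono (hker' _ rfl hxU)).trans ?_
            rw [Ideal.map_span, Set.image_singleton, Ideal.map_span, Set.image_singleton, Scheme.Hom.germ_stalkMap_apply]
            refine le_of_eq (congrArg (fun t => Ideal.span {t}) ?_)
            exact (TopCat.Presheaf.germ_res_apply X.presheaf (homOfLE (le_top : U ≤ f ⁻¹ᵁ ⊤)) _ hxU _).symm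
          refine hkle ?_
          rw [RingHom.mem_ker]
          refine (pow_eq_zero_iff (two_ne_zero)).1 ?_
          rw [← map_pow, ← RingHom.mem_ker, hker, pow_two, ← map_mul]
          have h4 := Ideal.mem_map_of_mem (algebraMap Γ(X, U) (X.presheaf.stalk (f.fiberι (IsLocalRing.closedPoint R) v))) hw
          rw [Ideal.map_span, Set.image_singleton] at h4
          refine (Ideal.span_le.2 ?_) h4
          rintro _ rfl
          refine SetLike.mem_coe.2 ?_
          show X.presheaf.germ U _ hxU (f.appLE ⊤ U le_top s) ∈ _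
          rw [Scheme.Hom.appLE, CommRingCat.comp_apply, TopCat.Presheaf.germ_res_apply, ← Scheme.Hom.germ_stalkMap_apply]
          refine Ideal.mem_map_of_mem _ fun hcu => ?_
          rw [← (Spec (CommRingCat.of R)).mem_basicOpen s _ (trivial : f (f.fiberι (IsLocalRing.closedPoint R) v) ∈ (⊤ : (Spec (CommRingCat.of R)).Opens))] at hcu
          rw [show (Spec (CommRingCat.of R)).basicOpen s = PrimeSpectrum.basicOpen ϖ from basicOpen_eq_of_affine (R := CommRingCat.of R) ϖ] at hcu
          refine hcu ?_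
          rw [hxc]
          show ϖ ∈ maximalIdeal R
          exact hϖ.not_isUnit
        · rw [Ideal.map_span, Set.image_singleton, Ideal.span_singleton_eq_top.2
            (IsLocalization.map_units (X.presheaf.stalk x) (⟨u, huP⟩ : P.primeCompl))]
          trivial
      rw [IsLocalization.algebraMap_mem_map_algebraMap_iff P.primeCompl] at key
      obtain ⟨t, ht, htw⟩ := key
      exact ht (hle (by simpa [K, Submodule.mem_comap] using htw))
  -- density and connectedness
  have hdense : Dense (G : Set X) := by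
    refine dense_iff_inter_open.2 fun O hO ⟨x, hx⟩ => ?_
    obtain ⟨U, hU, hxU, hle⟩ := exists_isAffineOpen_mem_and_subset (x := x) (U := ⟨O, hO⟩) hx
    obtain ⟨u, hb, hu, -⟩ := hch U hU
    haveI : Nonempty U := ⟨⟨x, hxU⟩⟩
    obtain ⟨z, hz⟩ : (X.basicOpen u : Set X).Nonempty := by
      obtain ⟨q, hq⟩ : ∃ q : PrimeSpectrum Γ(X, U), u ∉ q.asIdeal := by
        by_contra hne
        push Not at hne
        haveI : Nontrivial Γ(X, U) := inferInstance
        obtain ⟨n, hn⟩ : IsNilpotent u := nilpotent_iff_mem_prime.2 fun J hJ => hne ⟨J, hJ⟩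
        exact nonZeroDivisors.ne_zero (pow_mem hu n) hn
      exact ⟨hU.fromSpec q, (SetLike.ext_iff.1 (hU.fromSpec_preimage_basicOpen u) q).2 hq⟩
    rw [hb] at hz
    exact ⟨z, hle hz.1, hz.2⟩
  refine ⟨hdense.nonempty, isPreconnected_iff_subset_of_disjoint.2 fun C D hC hD hcov hdisj => ?_⟩
  let C' := closure ((G : Set X) ∩ C)
  let D' := closure ((G : Set X) ∩ D)
  have hun : C' ∪ D' = Set.univ := by
    rw [← closure_union, ← Set.inter_union_distrib_left, Set.inter_eq_left.2 hcov, hdense.closure_eq]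
  have hdis : ∀ x, x ∈ C' → x ∈ D' → False := by
    intro x hxC hxD
    obtain ⟨U, hU, hxU, -⟩ := exists_isAffineOpen_mem_and_subset (x := x) (U := (⊤ : X.Opens)) trivial
    obtain ⟨u, hb, hu, hr⟩ := hch U hU
    have hmemG : ∀ p : PrimeSpectrum Γ(X, U), hU.fromSpec p ∈ G ↔ u ∉ p.asIdeal := fun p => by
      have h1 : hU.fromSpec p ∈ U := hU.range_fromSpec.subset (Set.mem_range_self p)
      have h2 : hU.fromSpec p ∈ X.basicOpen u ↔ u ∉ p.asIdeal := by
        have := SetLike.ext_iff.1 (hU.fromSpec_preimage_basicOpen u) p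
        exact this
      rw [hb] at h2
      exact ⟨fun h => h2.1 ⟨h1, h⟩, fun h => (h2.2 h).2⟩
    let S : Set (PrimeSpectrum Γ(X, U)) := hU.fromSpec ⁻¹' C
    have hS : IsClopen (Subtype.val ⁻¹' S : Set {p : PrimeSpectrum Γ(X, U) // u ∉ p.asIdeal}) := by
      refine ⟨?_, (hC.preimage hU.fromSpec.continuous).preimage continuous_subtype_val⟩
      have e : (Subtype.val ⁻¹' S : Set {p : PrimeSpectrum Γ(X, U) // u ∉ p.asIdeal}) =
          (Subtype.val ⁻¹' (hU.fromSpec ⁻¹' D))ᶜ := by
        ext ⟨p, hp⟩
        have hg := (hmemG p).2 hp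
        refine ⟨fun h1 h2 => ?_, fun h => (hcov hg).resolve_right h⟩
        exact (Set.eq_empty_iff_forall_notMem.1 hdisj _) ⟨hg, h1, h2⟩
      rw [e]
      exact ((hD.preimage hU.fromSpec.continuous).preimage continuous_subtype_val).isClosed_compl
    obtain ⟨e, he, heS⟩ := exists_idem hu hr S hS
    let p := hU.primeIdealOf ⟨x, hxU⟩
    have hp : hU.fromSpec p = x := hU.fromSpec_primeIdealOf ⟨x, hxU⟩
    have hopen := hU.fromSpec.isOpenEmbedding.isOpenMap
    by_cases hep : e ∈ p.asIdeal
    · have h1 : (1 - e) ∉ p.asIdeal := fun h => p.isPrime.ne_top ((Ideal.eq_top_iff_one _).2 (by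
        simpa using Ideal.add_mem _ hep h))
      obtain ⟨z, ⟨q, hq, rfl⟩, hzG, hzC⟩ := mem_closure_iff.1 hxC _ (hopen _ (PrimeSpectrum.basicOpen (1 - e)).2)
        ⟨p, h1, hp⟩
      refine (heS q ((hmemG q).1 hzG)).2 hzC |> fun h => ?_
      exact (q.isPrime.mem_or_mem (show e * (1 - e) ∈ q.asIdeal by
        rw [mul_sub, mul_one, he.eq, sub_self]; exact zero_mem _)).elim h hq
    · obtain ⟨z, ⟨q, hq, rfl⟩, hzG, hzD⟩ := mem_closure_iff.1 hxD _ (hopen _ (PrimeSpectrum.basicOpen e).2)
        ⟨p, hep, hp⟩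
      exact (Set.eq_empty_iff_forall_notMem.1 hdisj _) ⟨hzG, (heS q ((hmemG q).1 hzG)).1 hq, hzD⟩
  have hCc : IsClopen C' := by
    refine ⟨isClosed_closure, ?_⟩
    have : C' = D'ᶜ := Set.ext fun x => ⟨fun h h' => hdis x h h', fun h =>
      ((hun.ge (Set.mem_univ x)).resolve_right h)⟩
    rw [this]
    exact isClosed_closure.isOpen_compl
  rcases isClopen_iff.1 hCc with h | h
  · refine Or.inr fun x hx => (hcov hx).resolve_left fun hxC => ?_
    exact (h.le (subset_closure ⟨hx, hxC⟩) : x ∈ (∅ : Set X))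
  · refine Or.inl fun x hx => (hcov hx).resolve_right fun hxD => hdis x (h.ge trivial) (subset_closure ⟨hx, hxD⟩)

theorem connectedSpace_genericFibre [Flat f] [ConnectedSpace ↑X]
    (hred : IsReduced (f.fiber (IsLocalRing.closedPoint R))) :
    ConnectedSpace ↑(f.fiber (⟨⊥, Ideal.isPrime_bot⟩ : PrimeSpectrum R)) := by
  have h := isConnected_genericFibre f hred
  rw [show (f ⁻¹' {(⟨⊥, Ideal.isPrime_bot⟩ : PrimeSpectrum R)}) = Set.range (f.fiberι (⟨⊥, Ideal.isPrime_bot⟩ : PrimeSpectrum R)) from
    (f.range_fiberι _).symm, ← Set.image_univ] at h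
  refine connectedSpace_iff_univ.2 ⟨h.nonempty.of_image, ?_⟩
  exact (f.fiberι _).isEmbedding.isInducing.isPreconnected_image.1 h.2

end Groth.L20.GenConn
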